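import Groth.Agent.InjQCoh7.Rows
import Groth.Agent.QCohSupX.Groth
import Groth.Agent.TriCat.Resolve
import Groth.Agent.KFlatLib.Scheme.QCohD
import Mathlib.Algebra.Homology.DerivedCategory.KInjective
import Mathlib.Algebra.Homology.DerivedCategory.TStructure
import Groth.Prelude.Def_DCoh2

/-!
# Bounded complexes with quasi-coherent cohomology are complexes of injective quasi-coherent modules

`exists_injective_rep` : on a Noetherian scheme, a bounded object of `D(O_X)` with quasi-coherent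
cohomology is a bounded below complex of quasi-coherent injective `O_X`-modules.
-/

set_option autoImplicit false
set_option linter.style.haveILetI false
set_option backward.isDefEq.respectTransparency false
set_option backward.isDefEq.respectTransparency.types false

universe u

open CategoryTheory CategoryTheory.Limits CategoryTheory.Pretriangulated CategoryTheory.Triangulated AlgebraicGeometry

attribute [local instance] HasDerivedCategory.standard
attribute [local instance] Groth.Agent.QCoh.hasFiniteBiproducts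

noncomputable section

namespace Groth.Agent.QCohRep7

variable {X : Scheme.{u}} [IsNoetherian X]

/-- The data of a representative by injective quasi-coherent modules. -/
def HasRep (K : DCoh.D X) : Prop :=
  ∃ (L : CochainComplex X.Modules ℤ) (a : ℤ), L.IsStrictlyGE a ∧ (∀ m, Coh.IsQCoh (L.X m)) ∧
    (∀ m, Injective (L.X m)) ∧ Nonempty (DerivedCategory.Q.obj L ≅ K)

theorem hasRep_of_iso {K K' : DCoh.D X} (e : K ≅ K') (h : HasRep K) : HasRep K' := by
  obtain ⟨L, a, h1, h2, h3, ⟨i⟩⟩ := h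
  exact ⟨L, a, h1, h2, h3, ⟨i ≪≫ e⟩⟩

theorem hasRep_single {M : X.Modules} (hM : Coh.IsQCoh M) (a : ℤ) :
    HasRep ((DerivedCategory.singleFunctor X.Modules a).obj M) := by
  haveI := QCohSupX.isGrothendieckAbelian_qcoh X
  let ι := (QCohCat.isQCoh X).ι
  let M' : QCohCat.QCoh X := ⟨M, hM⟩
  let S : CochainComplex (QCohCat.QCoh X) ℤ := (HomologicalComplex.single _ (ComplexShape.up ℤ) a).obj M'
  haveI : S.IsStrictlyGE a := (CochainComplex.isStrictlyGE_iff _ _).2 fun m hm =>
    HomologicalComplex.isZero_single_obj_X (ComplexShape.up ℤ) a M' m (by omega)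
  obtain ⟨J, s, hJ, hinj, -, hs⟩ := TriCat.exists_quasiIso_resolution
    (fun Y : QCohCat.QCoh X => Injective Y)
    ⟨_, isZero_zero _, Injective.zero_injective⟩
    (fun Y => ⟨Injective.under Y, Injective.ι Y, inferInstance, inferInstance⟩) S a
  haveI := hs
  haveI : PreservesFiniteColimits ι := PreservesColimitsOfSize.preservesFiniteColimits.{u, u} ι
  let F := ι.mapHomologicalComplex (ComplexShape.up ℤ)
  haveI : QuasiIso (F.map s) := inferInstance
  let e := (HomologicalComplex.singleMapHomologicalComplex ι (ComplexShape.up ℤ) a).app M'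
  refine ⟨F.obj J, a, (CochainComplex.isStrictlyGE_iff _ _).2 fun m hm =>
    ι.map_isZero ((CochainComplex.isStrictlyGE_iff _ _).1 hJ m hm), fun m => (J.X m).property,
    fun m => InjQCoh7.injective_obj (J.X m) (hinj m), ⟨?_⟩⟩
  exact (asIso (DerivedCategory.Q.map (F.map s))).symm ≪≫ DerivedCategory.Q.mapIso e

theorem hasRep_of_triangle {T : Triangle (DCoh.D X)} (hT : T ∈ distTriang _) (h₁ : HasRep T.obj₁)
    (h₃ : HasRep T.obj₃) : HasRep T.obj₂ := by
  obtain ⟨L₁, a₁, g₁, q₁, i₁, ⟨e₁⟩⟩ := h₁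
  obtain ⟨L₃, a₃, g₃, q₃, i₃, ⟨e₃⟩⟩ := h₃
  haveI := g₁
  haveI := g₃
  haveI : ∀ m, Injective (L₁.X m) := i₁
  haveI : ∀ m, Injective (L₃.X m) := i₃
  -- `T.obj₂` is the cone of a map `L₃[-1] ⟶ L₁`
  let L₀ : CochainComplex X.Modules ℤ := L₃⟦(-1 : ℤ)⟧
  haveI g₀ : L₀.IsStrictlyGE (a₃ + 1) := L₃.isStrictlyGE_shift a₃ (-1) (a₃ + 1) (by omega)
  haveI : L₁.IsKInjective := CochainComplex.isKInjective_of_injective L₁ a₁
  let e₀ : DerivedCategory.Q.obj L₀ ≅ T.invRotate.obj₁ :=
    (DerivedCategory.Q.commShiftIso (-1 : ℤ)).app L₃ ≪≫ (shiftFunctor _ (-1 : ℤ)).mapIso e₃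
  obtain ⟨ψ, hψ⟩ := (CochainComplex.IsKInjective.Qh_map_bijective
    (K := (HomotopyCategory.quotient X.Modules (ComplexShape.up ℤ)).obj L₀) L₁).2
      ((DerivedCategory.quotientCompQhIso X.Modules).hom.app L₀ ≫ e₀.hom ≫ T.invRotate.mor₁ ≫ e₁.inv ≫
        (DerivedCategory.quotientCompQhIso X.Modules).inv.app L₁)
  obtain ⟨φ, rfl⟩ := (HomotopyCategory.quotient X.Modules (ComplexShape.up ℤ)).map_surjective ψ
  have hφ : DerivedCategory.Q.map φ ≫ e₁.hom = e₀.hom ≫ T.invRotate.mor₁ := by
    have hn := (DerivedCategory.quotientCompQhIso X.Modules).inv.naturality φ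
    rw [← cancel_epi ((DerivedCategory.quotientCompQhIso X.Modules).hom.app L₀)]
    have h1 : DerivedCategory.Q.map φ = (DerivedCategory.quotientCompQhIso X.Modules).inv.app L₀ ≫
        DerivedCategory.Qh.map ((HomotopyCategory.quotient X.Modules (ComplexShape.up ℤ)).map φ) ≫
        (DerivedCategory.quotientCompQhIso X.Modules).hom.app L₁ := by
      have h2 := congrArg (· ≫ (DerivedCategory.quotientCompQhIso X.Modules).hom.app L₁) hn
      simpa using h2
    rw [h1, hψ]
    simp
  haveI hd := (DerivedCategory.mem_distTriang_iff _).2 ⟨_, _, φ, ⟨Iso.refl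
    ((DerivedCategory.Q.mapTriangle).obj (CochainComplex.mappingCone.triangle φ))⟩⟩
  obtain ⟨c, hc₂, hc₃⟩ := complete_distinguished_triangle_morphism _ _ hd (inv_rot_of_distTriang _ hT)
    e₀.hom e₁.hom hφ
  haveI : IsIso c := by
    let ψ := Triangle.homMk ((DerivedCategory.Q.mapTriangle).obj (CochainComplex.mappingCone.triangle φ))
      T.invRotate e₀.hom e₁.hom c hφ hc₂ hc₃
    haveI h₁ : IsIso ψ.hom₁ := inferInstanceAs (IsIso e₀.hom)
    haveI h₂ : IsIso ψ.hom₂ := inferInstanceAs (IsIso e₁.hom)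
    exact isIso₃_of_isIso₁₂ ψ hd (inv_rot_of_distTriang _ hT) h₁ h₂
  refine ⟨CochainComplex.mappingCone φ, min a₁ a₃ , ?_, fun m => ?_, fun m => ?_, ⟨asIso c⟩⟩
  · refine (CochainComplex.isStrictlyGE_iff _ _).2 fun m hm => ?_
    refine ((biprod_isZero_iff _ _).2 ⟨?_, ?_⟩).of_iso
      (HomologicalComplex.homotopyCofiber.XIsoBiprod φ m (m + 1) rfl)
    · exact (CochainComplex.isStrictlyGE_iff _ _).1 g₀ (m + 1) (by omega)
    · exact (CochainComplex.isStrictlyGE_iff _ _).1 g₁ m (by omega)
  · let S := ShortComplex.mk (biprod.inl : L₀.X (m + 1) ⟶ L₀.X (m + 1) ⊞ L₁.X m) biprod.snd biprod.inl_snd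
    exact (QCoh.isQCoh_iff_iso (HomologicalComplex.homotopyCofiber.XIsoBiprod φ m (m + 1) rfl)).2
      (QCoh.isQCoh_X₂ (S := S) (ShortComplex.Splitting.ofHasBinaryBiproduct _ _).shortExact (q₃ _) (q₁ m))
  · haveI : Injective (L₀.X (m + 1)) := i₃ _
    exact Injective.of_iso (HomologicalComplex.homotopyCofiber.XIsoBiprod φ m (m + 1) rfl).symm inferInstance

theorem hasRep_zero {K : DCoh.D X} (h : IsZero K) : HasRep K :=
  hasRep_of_iso (((DerivedCategory.singleFunctor X.Modules 0).map_isZero (isZero_zero X.Modules)).iso h)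
    (hasRep_single (KFlatLib.isQCoh_of_isZero (isZero_zero _)) 0)

omit [AlgebraicGeometry.IsNoetherian X] in
theorem exists_split (K : DCoh.D X) (a b : ℤ) [K.IsGE a] [K.IsLE b] (hK : DCoh.IsQCohD K) (h : a ≤ b) :
    ∃ (T : Triangle (DCoh.D X)), T ∈ distTriang _ ∧ T.obj₂ = K ∧ T.obj₁.IsGE a ∧ T.obj₁.IsLE a ∧
      T.obj₃.IsGE (a + 1) ∧ T.obj₃.IsLE b ∧ DCoh.IsQCohD T.obj₁ ∧ DCoh.IsQCohD T.obj₃ := by
  let t : TStructure (DCoh.D X) := DerivedCategory.TStructure.t
  let T := (t.triangleLEGE a (a + 1) rfl).obj K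
  have hT : T ∈ distTriang _ := t.triangleLEGE_distinguished a (a + 1) rfl K
  have h1GE : T.obj₁.IsGE a := inferInstanceAs (t.IsGE ((t.truncLE a).obj K) a)
  have h1LE : T.obj₁.IsLE a := inferInstanceAs (t.IsLE ((t.truncLE a).obj K) a)
  have h3GE : T.obj₃.IsGE (a + 1) := inferInstanceAs (t.IsGE ((t.truncGE (a + 1)).obj K) (a + 1))
  have h3LE : T.obj₃.IsLE b := inferInstanceAs (t.IsLE ((t.truncGE (a + 1)).obj K) b)
  have hq1 : DCoh.IsQCohD T.obj₁ := fun n => by
    by_cases hn : n = a
    · subst hn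
      have hT' := inv_rot_of_distTriang _ hT
      have hA : IsZero ((DerivedCategory.homologyFunctor X.Modules n).obj T.invRotate.obj₁) :=
        ((DerivedCategory.homologyFunctor X.Modules 0).shiftIso (-1) n (n - 1) (by omega) |>.app T.obj₃).symm
          |> fun e => IsZero.of_iso ((DerivedCategory.isGE_iff _ (n + 1)).1 h3GE (n - 1) (by omega)) e.symm
      have hE : IsZero ((DerivedCategory.homologyFunctor X.Modules (n + 1)).obj T.invRotate.obj₁) :=
        IsZero.of_iso ((DerivedCategory.isGE_iff _ (n + 1)).1 h3GE n (by omega))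
          ((DerivedCategory.homologyFunctor X.Modules 0).shiftIso (-1) (n + 1) n (by omega) |>.app T.obj₃)
      exact KFlatLib.isQCoh_of_exact _ _ _
        (DerivedCategory.HomologySequence.exact₁ _ hT' (n - 1) n (by omega))
        (DerivedCategory.HomologySequence.exact₂ _ hT' n)
        (DerivedCategory.HomologySequence.exact₃ _ hT' n (n + 1) rfl)
        (hK (n - 1)) (KFlatLib.isQCoh_of_isZero hA) (hK n) (KFlatLib.isQCoh_of_isZero hE)
    · refine KFlatLib.isQCoh_of_isZero ?_
      rcases lt_or_gt_of_ne hn with hn' | hn'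
      · exact (DerivedCategory.isGE_iff _ a).1 h1GE n hn'
      · exact (DerivedCategory.isLE_iff _ a).1 h1LE n hn'
  exact ⟨T, hT, rfl, h1GE, h1LE, h3GE, h3LE, hq1, KFlatLib.isQCohD_obj₃ hT hq1 hK⟩

/-- A bounded object with quasi-coherent cohomology has a representative. -/
theorem exists_injective_rep (K : DCoh.D X) (a b : ℤ) [K.IsGE a] [K.IsLE b] (hK : DCoh.IsQCohD K) : HasRep K := by
  suffices H : ∀ (d : ℕ) (a b : ℤ) (K : DCoh.D X), K.IsGE a → K.IsLE b → DCoh.IsQCohD K → b < a + d → HasRep K from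
    H (b - a + 1).toNat a b K inferInstance inferInstance hK (by omega)
  intro d
  induction d with
  | zero =>
    intro a b K hGE hLE _ hab
    exact hasRep_zero ((DerivedCategory.TStructure.t).isZero K b a (by omega))
  | succ d ih =>
    intro a b K hGE hLE hK hab
    rcases lt_or_ge b a with h | h
    · exact hasRep_zero ((DerivedCategory.TStructure.t).isZero K b a h)
    let t : TStructure (DCoh.D X) := DerivedCategory.TStructure.t
    by_cases hab' : b = a
    · subst hab'
      obtain ⟨M, ⟨e⟩⟩ := DerivedCategory.exists_iso_singleFunctor_obj_of_isGE_of_isLE K b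
      refine hasRep_of_iso e.symm (hasRep_single ?_ b)
      exact (QCoh.isQCoh_iff_iso ((DerivedCategory.singleFunctorCompHomologyFunctorIso X.Modules b).app M)).1
        ((QCoh.isQCoh_iff_iso ((DerivedCategory.homologyFunctor X.Modules b).mapIso e)).1 (hK b))
    obtain ⟨T, hd, rfl, h1GE, h1LE, h3GE, h3LE, hq1, hq3⟩ := exists_split K a b hK h
    exact hasRep_of_triangle hd (ih a a T.obj₁ h1GE h1LE hq1 (by omega))
      (ih (a + 1) b T.obj₃ h3GE h3LE hq3 (by omega))

end Groth.Agent.QCohRep7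

end
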