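import Groth.Agent.QCoh.Support
import Groth.Agent.QCoh.DevissageSum
import Groth.Agent.KFlatLib.Scheme.QCohD
import Mathlib.Algebra.Homology.QuasiIso

/-!
# Homology of complexes of quasi-coherent modules on sections over affine opens
-/

set_option autoImplicit false
set_option linter.style.haveILetI false
set_option backward.isDefEq.respectTransparency false
set_option backward.isDefEq.respectTransparency.types false

universe u

open CategoryTheory CategoryTheory.Limits AlgebraicGeometry TopologicalSpace Opposite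

attribute [local instance] Abelian.hasFiniteBiproducts

noncomputable section

namespace Groth.Agent.QCohRep7

variable {X : Scheme.{u}}

/-- The image of an exact sequence of quasi-coherent modules on sections over an affine open. -/
theorem exists_app_eq {S : ShortComplex X.Modules} (hS : S.Exact) (h₁ : Coh.IsQCoh S.X₁)
    (h₂ : Coh.IsQCoh S.X₂) (h₃ : Coh.IsQCoh S.X₃) {W : X.Opens} (hW : IsAffineOpen W) (x : Γ(S.X₂, W))
    (hx : S.g.app W x = 0) : ∃ w, S.f.app W w = x := by
  haveI := S.exact_iff_epi_kernel_lift.1 hS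
  obtain ⟨t, ht⟩ := QCoh.exists_kernel_lift S.g W x hx
  obtain ⟨w, hw⟩ := QCoh.app_surjective_of_epi h₁ (QCoh.isQCoh_kernel h₂ h₃ S.g) (kernel.lift S.g S.f S.zero) hW t
  exact ⟨w, (congr(($(kernel.lift_ι S.g S.f S.zero)).app W w) : _).symm.trans
    ((congrArg ((kernel.ι S.g).app W) hw).trans ht)⟩

/-- Spans of sections of a restricted module. -/
theorem span_restrict_le {Y : Scheme.{u}} (f : Y ⟶ X) [IsOpenImmersion f] (M : X.Modules) (W : Y.Opens)
    (S : Set Γ(M.restrict f, W)) (x : Γ(M.restrict f, W)) (hx : x ∈ Submodule.span Γ(Y, W) S) :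
    (M.restrictAppIso f W).hom x ∈ Submodule.span Γ(X, f ''ᵁ W) ((M.restrictAppIso f W).hom '' S) := by
  induction hx using Submodule.span_induction with
  | mem y hy => exact Submodule.subset_span ⟨y, hy, rfl⟩
  | zero => rw [map_zero]; exact Submodule.zero_mem _
  | add y z _ _ hy hz => rw [map_add]; exact Submodule.add_mem _ hy hz
  | smul r y _ hy =>
    show (f.appIso W).inv r • (M.restrictAppIso f W).hom y ∈ _
    exact Submodule.smul_mem _ _ hy

variable (K : CochainComplex X.Modules ℤ)

/-- Cycles as a kernel. -/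
def cyclesIso (m q : ℤ) (h : m + 1 = q) : K.cycles m ≅ kernel (K.d m q) :=
  (K.cyclesIsKernel m q ((ComplexShape.up ℤ).next_eq' h)).conePointUniqueUpToIso (limit.isLimit _)

lemma cyclesIso_inv_i (m q : ℤ) (h : m + 1 = q) :
    (cyclesIso K m q h).inv ≫ K.iCycles m = kernel.ι (K.d m q) :=
  (K.cyclesIsKernel m q ((ComplexShape.up ℤ).next_eq' h)).conePointUniqueUpToIso_inv_comp
    (limit.isLimit _) WalkingParallelPair.zero

lemma exact_toCycles (p m : ℤ) (h : p + 1 = m) :
    (ShortComplex.mk (K.toCycles p m) (K.homologyπ m) (K.toCycles_comp_homologyπ p m)).Exact :=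
  ShortComplex.exact_of_g_is_cokernel _ (K.homologyIsCokernel p m ((ComplexShape.up ℤ).prev_eq' h))

variable {K} (hK : ∀ m, Coh.IsQCoh (K.X m))
include hK

lemma isQCoh_cycles (m : ℤ) : Coh.IsQCoh (K.cycles m) :=
  KFlatLib.isQCoh_of_iso (cyclesIso K m (m + 1) rfl).symm (QCoh.isQCoh_kernel (hK _) (hK _) _)

lemma isQCoh_homology (m : ℤ) : Coh.IsQCoh (K.homology m) :=
  KFlatLib.isQCoh_of_iso ((colimit.isColimit _).coconePointUniqueUpToIso
    (K.homologyIsCokernel (m - 1) m ((ComplexShape.up ℤ).prev_eq' (sub_add_cancel m 1))))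
    (QCoh.isQCoh_cokernel (hK _) (isQCoh_cycles hK m) _)

variable {W : X.Opens} (hW : IsAffineOpen W)
include hW

lemma exists_cycle (m q : ℤ) (h : m + 1 = q) (x : Γ(K.X m, W)) (hx : (K.d m q).app W x = 0) :
    ∃ c : Γ(K.cycles m, W), (K.iCycles m).app W c = x := by
  obtain ⟨t, ht⟩ := QCoh.exists_kernel_lift (K.d m q) W x hx
  exact ⟨(cyclesIso K m q h).inv.app W t, (congr(($(cyclesIso_inv_i K m q h)).app W t) : _).trans ht⟩

lemma homologyπ_surjective (m : ℤ) : Function.Surjective ((K.homologyπ m).app W) :=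
  QCoh.app_surjective_of_epi (isQCoh_cycles hK m) (isQCoh_homology hK m) _ hW

lemma exists_toCycles (p m : ℤ) (h : p + 1 = m) (c : Γ(K.cycles m, W)) (hc : (K.homologyπ m).app W c = 0) :
    ∃ w, (K.toCycles p m).app W w = c :=
  exists_app_eq (exact_toCycles K p m h) (hK p) (isQCoh_cycles hK m) (isQCoh_homology hK m) hW c hc

omit hW in
/-- Sections of the cohomology give generators of the cycles modulo boundaries. -/
theorem exists_generators (hW : IsAffineOpen W) {p m q : ℤ} (hpm : p + 1 = m) (hmq : m + 1 = q)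
    (hH : Coh.IsCoh (K.homology m)) :
    ∃ (N : ℕ) (z : Fin N → Γ(K.X m, W)), (∀ l, (K.d m q).app W (z l) = 0) ∧
      ∀ x, (K.d m q).app W x = 0 →
        ∃ w, x - (K.d p m).app W w ∈ Submodule.span Γ(X, W) (Set.range z) := by
  haveI := QCoh.finite_sections hH hW
  obtain ⟨N, h, hh⟩ := Module.Finite.exists_fin (R := Γ(X, W)) (M := Γ(K.homology m, W))
  choose c hc using fun l => homologyπ_surjective hK hW m (h l)
  refine ⟨N, fun l => (K.iCycles m).app W (c l), fun l => ?_, fun x hx => ?_⟩
  · refine (congr(($(K.iCycles_d m q)).app W (c l)) : _).trans ?_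
    rw [Scheme.Modules.Hom.zero_app]; rfl
  obtain ⟨cx, rfl⟩ := exists_cycle hK hW m q hmq x hx
  have hm : (K.homologyπ m).app W cx ∈ Submodule.span Γ(X, W) (Set.range h) := hh ▸ Submodule.mem_top
  obtain ⟨r, hr⟩ := (Submodule.mem_span_range_iff_exists_fun _).1 hm
  have h0 : (K.homologyπ m).app W (cx - ∑ l, r l • c l) = 0 := by
    rw [map_sub, map_sum, sub_eq_zero, ← hr]
    exact Finset.sum_congr rfl fun l _ => by rw [Scheme.Modules.Hom.app_smul, hc]
  obtain ⟨w, hw⟩ := exists_toCycles hK hW p m hpm _ h0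
  refine ⟨w, ?_⟩
  have e : (K.d p m).app W w = (K.iCycles m).app W (cx - ∑ l, r l • c l) := by
    rw [← hw]
    exact (congr(($(K.toCycles_i p m)).app W w) : _).symm
  rw [e, map_sub, map_sum, sub_sub_cancel]
  refine Submodule.sum_mem _ fun l _ => ?_
  rw [Scheme.Modules.Hom.app_smul]
  exact Submodule.smul_mem _ _ (Submodule.subset_span ⟨l, rfl⟩)

omit hW

variable {L : CochainComplex X.Modules ℤ} (hL : ∀ m, Coh.IsQCoh (L.X m)) (φ : K ⟶ L) [∀ m, Mono (φ.f m)]
  {κ : Type*} (V : κ → X.Opens) (hV : ∀ k, IsAffineOpen (V k)) (hcov : ∀ x : X, ∃ k, x ∈ V k)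
include hL hV hcov

/-- A criterion for a monomorphism of complexes to be a quasi-isomorphism. -/
theorem quasiIso_of_cover
    (hsurj : ∀ p m q, p + 1 = m → m + 1 = q → ∀ (k : κ) (x : Γ(L.X m, V k)), (L.d m q).app (V k) x = 0 →
        ∃ (y : Γ(K.X m, V k)) (w : Γ(L.X p, V k)), x = (φ.f m).app (V k) y + (L.d p m).app (V k) w)
    (hinj : ∀ p m, p + 1 = m → ∀ (k : κ) (y : Γ(K.X m, V k)),
        (∃ w, (φ.f m).app (V k) y = (L.d p m).app (V k) w) →
        ∃ y' : Γ(K.X p, V k), (L.d p m).app (V k) ((φ.f p).app (V k) y') = (φ.f m).app (V k) y) :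
    QuasiIso φ := by
  refine ⟨fun m => ?_⟩
  rw [quasiIsoAt_iff_isIso_homologyMap]
  let g := HomologicalComplex.homologyMap φ m
  have hq : ∀ m, Coh.IsQCoh (K.homology m) := isQCoh_homology hK
  have comm : ∀ i j (V' : X.Opens) (y : Γ(K.X i, V')),
      (L.d i j).app V' ((φ.f i).app V' y) = (φ.f j).app V' ((K.d i j).app V' y) :=
    fun i j V' y => (congr(($(φ.comm i j)).app V' y) : _)
  haveI : Mono g := by
    refine Preadditive.mono_of_isZero_kernel _ (QCoh.isZero_of_cover
      (QCoh.isQCoh_kernel (hq m) (isQCoh_homology hL m) g) V hV hcov fun k => ?_)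
    refine subsingleton_of_forall_eq 0 fun s => QCoh.app_injective (kernel.ι g) (V k) ?_
    rw [map_zero]
    obtain ⟨c, hc⟩ := homologyπ_surjective hK (hV k) m ((kernel.ι g).app (V k) s)
    rw [← hc]
    have h0 : (L.homologyπ m).app (V k) ((HomologicalComplex.cyclesMap φ m).app (V k) c) = 0 := by
      refine (congr(($(HomologicalComplex.homologyπ_naturality φ m)).app (V k) c) : _).symm.trans ?_
      show g.app (V k) ((K.homologyπ m).app (V k) c) = 0
      rw [hc]
      refine (congr(($(kernel.condition g)).app (V k) s) : _).trans ?_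
      rw [Scheme.Modules.Hom.zero_app]; rfl
    obtain ⟨w, hw⟩ := exists_toCycles hL (hV k) (m - 1) m (by omega) _ h0
    have hy : (φ.f m).app (V k) ((K.iCycles m).app (V k) c) = (L.d (m - 1) m).app (V k) w := by
      refine (congr(($(HomologicalComplex.cyclesMap_i φ m)).app (V k) c) : _).symm.trans ?_
      refine (congrArg ((L.iCycles m).app (V k)) hw.symm).trans ?_
      exact (congr(($(L.toCycles_i (m - 1) m)).app (V k) w) : _)
    obtain ⟨y', hy'⟩ := hinj (m - 1) m (by omega) k _ ⟨w, hy⟩
    rw [comm] at hy'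
    have e : (K.toCycles (m - 1) m).app (V k) y' = c := by
      apply QCoh.app_injective (K.iCycles m) (V k)
      exact (congr(($(K.toCycles_i (m - 1) m)).app (V k) y') : _).trans (QCoh.app_injective (φ.f m) (V k) hy')
    rw [← e]
    refine (congr(($(K.toCycles_comp_homologyπ (m - 1) m)).app (V k) y') : _).trans ?_
    rw [Scheme.Modules.Hom.zero_app]; rfl
  haveI : Epi g := by
    refine Preadditive.epi_of_isZero_cokernel _ (QCoh.isZero_of_cover
      (QCoh.isQCoh_cokernel (hq m) (isQCoh_homology hL m) g) V hV hcov fun k => ?_)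
    refine subsingleton_of_forall_eq 0 fun s => ?_
    obtain ⟨h, rfl⟩ := QCoh.app_surjective_of_epi (isQCoh_homology hL m)
      (QCoh.isQCoh_cokernel (hq m) (isQCoh_homology hL m) g) (cokernel.π g) (hV k) s
    obtain ⟨c, rfl⟩ := homologyπ_surjective hL (hV k) m h
    have hdx : (L.d m (m + 1)).app (V k) ((L.iCycles m).app (V k) c) = 0 := by
      refine (congr(($(L.iCycles_d m (m + 1))).app (V k) c) : _).trans ?_
      rw [Scheme.Modules.Hom.zero_app]; rfl
    obtain ⟨y, w, hyw⟩ := hsurj (m - 1) m (m + 1) (by omega) rfl k _ hdx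
    have hdy : (K.d m (m + 1)).app (V k) y = 0 := by
      refine QCoh.app_injective (φ.f (m + 1)) (V k) ?_
      rw [map_zero, ← comm]
      have h2 : (L.d m (m + 1)).app (V k) ((L.d (m - 1) m).app (V k) w) = 0 := by
        refine (congr(($(L.d_comp_d (m - 1) m (m + 1))).app (V k) w) : _).trans ?_
        rw [Scheme.Modules.Hom.zero_app]; rfl
      have h3 := congrArg ((L.d m (m + 1)).app (V k)) hyw
      rw [map_add, hdx, h2, add_zero] at h3
      exact h3.symm
    obtain ⟨cy, rfl⟩ := exists_cycle hK (hV k) m (m + 1) rfl y hdy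
    have e : c = (HomologicalComplex.cyclesMap φ m).app (V k) cy + (L.toCycles (m - 1) m).app (V k) w := by
      apply QCoh.app_injective (L.iCycles m) (V k)
      rw [map_add]
      refine hyw.trans (congrArg₂ (· + ·) ?_ ?_)
      · exact (congr(($(HomologicalComplex.cyclesMap_i φ m)).app (V k) cy) : _).symm
      · exact (congr(($(L.toCycles_i (m - 1) m)).app (V k) w) : _).symm
    rw [e, map_add, map_add]
    have z1 : (cokernel.π g).app (V k) ((L.homologyπ m).app (V k) ((L.toCycles (m - 1) m).app (V k) w)) = 0 := by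
      have := (congr(($(L.toCycles_comp_homologyπ (m - 1) m)).app (V k) w) : _)
      rw [Scheme.Modules.Hom.zero_app] at this
      exact (congrArg ((cokernel.π g).app (V k)) this).trans (map_zero _)
    rw [z1, add_zero]
    refine (congrArg ((cokernel.π g).app (V k))
      (congr(($(HomologicalComplex.homologyπ_naturality φ m)).app (V k) cy) : _).symm).trans ?_
    refine (congr(($(cokernel.condition g)).app (V k) ((K.homologyπ m).app (V k) cy)) : _).trans ?_
    rw [Scheme.Modules.Hom.zero_app]; rfl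
  exact isIso_of_mono_of_epi g

end Groth.Agent.QCohRep7

end
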