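import Groth.Agent.CohLimX.Basic
import Groth.Agent.QCoh.Support
import Groth.Agent.QCoh.DevissageSum
import Groth.Agent.KFlatLib.Scheme.QCohD
import Mathlib.Algebra.Homology.Embedding.CochainComplex
import Mathlib.CategoryTheory.Comma.Over.Basic

/-!
# Coherent subcomplexes with the same cohomology on given affine opens
-/

set_option autoImplicit false
set_option linter.style.haveILetI false
set_option backward.isDefEq.respectTransparency false
set_option backward.isDefEq.respectTransparency.types false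

universe u

open CategoryTheory CategoryTheory.Limits AlgebraicGeometry TopologicalSpace Opposite

open scoped ZeroObject

attribute [local instance] Abelian.hasFiniteBiproducts

noncomputable section

namespace Groth.Agent.QCohRep7

variable {X : Scheme.{u}}

/-- A morphism on sections as a linear map. -/
def appL {M N : X.Modules} (φ : M ⟶ N) (V : X.Opens) : Γ(M, V) →ₗ[Γ(X, V)] Γ(N, V) where
  toFun := φ.app V
  map_add' := map_add (φ.app V).hom
  map_smul' := fun r m => Scheme.Modules.Hom.app_smul φ r m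

@[simp] lemma appL_apply {M N : X.Modules} (φ : M ⟶ N) (V : X.Opens) (m : Γ(M, V)) :
    appL φ V m = φ.app V m := rfl

lemma app_comp {A B C : X.Modules} (f : A ⟶ B) (g : B ⟶ C) (V : X.Opens) (x : Γ(A, V)) :
    (f ≫ g).app V x = g.app V (f.app V x) := rfl

lemma app_zero {A B : X.Modules} (V : X.Opens) (x : Γ(A, V)) : (0 : A ⟶ B).app V x = 0 := by
  rw [Scheme.Modules.Hom.zero_app]; rfl

lemma mono_isZero_app {A : X.Modules} (h : IsZero A) (V : X.Opens) (x : Γ(A, V)) : x = 0 := by
  have h1 := app_zero (A := A) (B := A) V x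
  rw [← h.eq_of_src (𝟙 A) 0] at h1
  exact h1

variable [IsNoetherian X] (L : CochainComplex X.Modules ℤ) {κ : Type u} (V : κ → X.Opens)

/-- The conditions on a family of submodules of the terms in degrees `≥ i`. -/
structure Good (i : ℤ) (F : ∀ m, Over (L.X m)) : Prop where
  mono : ∀ m, Mono (F m).hom
  coh : ∀ m, Coh.IsCoh (F m).left
  zero : ∀ m, m < i → IsZero (F m).left
  factor : ∀ m q, m + 1 = q → i ≤ m → ∃ g : (F m).left ⟶ (F q).left, g ≫ (F q).hom = (F m).hom ≫ L.d m q
  surj : ∀ p m q, p + 1 = m → m + 1 = q → i ≤ m → ∀ (k : κ) (x : Γ(L.X m, V k)), (L.d m q).app (V k) x = 0 →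
    ∃ (y : Γ((F m).left, V k)) (w : Γ(L.X p, V k)), x = (F m).hom.app (V k) y + (L.d p m).app (V k) w
  inj : ∀ p m, p + 1 = m → i < m → ∀ (k : κ) (y : Γ((F m).left, V k)),
    (∃ w, (F m).hom.app (V k) y = (L.d p m).app (V k) w) →
    ∃ y' : Γ((F p).left, V k), (L.d p m).app (V k) ((F p).hom.app (V k) y') = (F m).hom.app (V k) y

variable {L V} [Finite κ] (hV : ∀ k, IsAffineOpen (V k)) (hL : ∀ m, Coh.IsQCoh (L.X m))
  (hfin : ∀ p m q, p + 1 = m → m + 1 = q → ∀ k : κ, ∃ (N : ℕ) (z : Fin N → Γ(L.X m, V k)),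
    (∀ l, (L.d m q).app (V k) (z l) = 0) ∧ ∀ x, (L.d m q).app (V k) x = 0 →
      ∃ w, x - (L.d p m).app (V k) w ∈ Submodule.span Γ(X, V k) (Set.range z))
include hV hL hfin

theorem exists_step (i : ℤ) (F : ∀ m, Over (L.X m)) (hF : Good L V i F) :
    ∃ F' : ∀ m, Over (L.X m), Good L V (i - 1) F' ∧ ∀ m, i ≤ m → F' m = F m := by
  haveI := hF.mono i
  let g := L.d (i - 1) i ≫ cokernel.π (F i).hom
  let P := kernel g
  have hP : Coh.IsQCoh P :=
    QCoh.isQCoh_kernel (hL _) (QCoh.isQCoh_cokernel (hF.coh i).1 (hL i) _) g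
  choose N z hz hzspan using fun k => hfin (i - 1 - 1) (i - 1) i (by omega) (by omega) k
  -- sections of `P`
  have hzP : ∀ (k : κ) (l : Fin (N k)), ∃ zz : Γ(P, V k), (kernel.ι g).app (V k) zz = z k l := fun k l =>
    QCoh.exists_kernel_lift g (V k) _ (by rw [app_comp, hz, map_zero])
  choose zz hzz using hzP
  haveI hnoeth : ∀ k, IsNoetherianRing Γ(X, V k) := fun k =>
    IsLocallyNoetherian.component_noetherian ⟨V k, hV k⟩
  let B : ∀ k, Submodule Γ(X, V k) Γ((F i).left, V k) := fun k =>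
    Submodule.comap (appL (F i).hom (V k)) (LinearMap.range (appL (L.d (i - 1) i) (V k)))
  haveI hfinF : ∀ k, Module.Finite Γ(X, V k) Γ((F i).left, V k) := fun k => QCoh.finite_sections (hF.coh i) (hV k)
  choose M b hb using fun k => Submodule.fg_iff_exists_fin_generating_family.1 (IsNoetherian.noetherian (B k))
  have hbP : ∀ (k : κ) (l : Fin (M k)), ∃ ww : Γ(P, V k),
      (L.d (i - 1) i).app (V k) ((kernel.ι g).app (V k) ww) = (F i).hom.app (V k) (b k l) := fun k l => by
    obtain ⟨w, hw⟩ : b k l ∈ B k := hb k ▸ Submodule.subset_span ⟨l, rfl⟩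
    have hw' : (L.d (i - 1) i).app (V k) w = (F i).hom.app (V k) (b k l) := hw
    obtain ⟨ww, hww⟩ := QCoh.exists_kernel_lift g (V k) w (by
      rw [app_comp, hw', ← app_comp, cokernel.condition, app_zero])
    exact ⟨ww, by rw [hww, hw']⟩
  choose ww hww using hbP
  obtain ⟨F₀, j, hj, hF₀, hmem⟩ := CohLimX.exists_coh_mono_of_sections hP
    (κ := Σ k : κ, Fin (N k) ⊕ Fin (M k)) (fun s => V s.1) (fun s => hV s.1)
    (fun s => Sum.elim (zz s.1) (ww s.1) s.2)
  haveI := hj
  let Fn : Over (L.X (i - 1)) := Over.mk (j ≫ kernel.ι g)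
  let F' : ∀ m, Over (L.X m) := Function.update F (i - 1) Fn
  have hn : F' (i - 1) = Fn := Function.update_self _ _ _
  have ho : ∀ m, m ≠ i - 1 → F' m = F m := fun m hm => Function.update_of_ne hm _ _
  have hFi : F' i = F i := ho i (by omega)
  refine ⟨F', ⟨fun m => ?_, fun m => ?_, fun m hm => ?_, fun m q hmq him => ?_, fun p m q hpm hmq him => ?_,
    fun p m hpm him => ?_⟩, fun m hm => ho m (by omega)⟩
  · by_cases hm : m = i - 1
    · subst hm
      rw [hn]
      exact mono_comp _ _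
    · rw [ho m hm]
      exact hF.mono m
  · by_cases hm : m = i - 1
    · subst hm
      rw [hn]
      exact hF₀
    · rw [ho m hm]
      exact hF.coh m
  · rw [ho m (by omega)]
    exact hF.zero m (by omega)
  · by_cases hm : m = i - 1
    · subst hm
      obtain rfl : q = i := by omega
      rw [hn, hFi]
      exact ⟨(Abelian.monoLift (F q).hom ((j ≫ kernel.ι g) ≫ L.d (q - 1) q)
        (by rw [Category.assoc, Category.assoc]; exact (congrArg (j ≫ ·) (kernel.condition g)).trans comp_zero)),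
        Abelian.monoLift_comp _ _ _⟩
    · rw [ho m hm, ho q (by omega)]
      exact hF.factor m q hmq (by omega)
  · by_cases hm : m = i - 1
    · subst hm
      obtain rfl : p = i - 1 - 1 := by omega
      obtain rfl : q = i := by omega
      rw [hn]
      intro k x hx
      obtain ⟨w, hw⟩ := hzspan k x hx
      have hsub : Submodule.span Γ(X, V k) (Set.range (z k)) ≤ LinearMap.range (appL Fn.hom (V k)) := by
        refine Submodule.span_le.2 ?_
        rintro _ ⟨l, rfl⟩
        obtain ⟨y, hy⟩ := hmem ⟨k, Sum.inl l⟩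
        exact ⟨y, (congrArg ((kernel.ι g).app (V k)) hy).trans (hzz k l)⟩
      obtain ⟨y, hy⟩ := hsub hw
      exact ⟨y, w, (eq_add_of_sub_eq hy.symm)⟩
    · rw [ho m hm]
      exact hF.surj p m q hpm hmq (by omega)
  · by_cases hm : m = i
    · subst hm
      obtain rfl : p = m - 1 := by omega
      rw [hn, hFi]
      intro k y hy
      obtain ⟨w, hw⟩ := hy
      have hyB : y ∈ B k := ⟨w, hw.symm⟩
      have hsub : Submodule.map (appL (F m).hom (V k)) (B k) ≤
          LinearMap.range ((appL (L.d (m - 1) m) (V k)).comp (appL Fn.hom (V k))) := by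
        rw [← hb k, Submodule.map_span]
        refine Submodule.span_le.2 ?_
        rintro _ ⟨_, ⟨l, rfl⟩, rfl⟩
        obtain ⟨t, ht⟩ := hmem ⟨k, Sum.inr l⟩
        exact ⟨t, (congrArg (fun s => (L.d (m - 1) m).app (V k) ((kernel.ι g).app (V k) s)) ht).trans (hww k l)⟩
      obtain ⟨y', hy'⟩ := hsub ⟨y, hyB, rfl⟩
      exact ⟨y', hy'⟩
    · rw [ho m (by omega), ho p (by omega)]
      exact hF.inj p m hpm (by omega)

/-- A bounded coherent subcomplex which carries the cohomology on the opens `V k`. -/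
theorem exists_subcomplex (a b : ℤ) [L.IsStrictlyGE a]
    (hb : ∀ p m q, p + 1 = m → m + 1 = q → b < m → ∀ (k : κ) (x : Γ(L.X m, V k)),
      (L.d m q).app (V k) x = 0 → ∃ w, x = (L.d p m).app (V k) w) :
    ∃ (G : CochainComplex X.Modules ℤ) (φ : G ⟶ L), (∀ m, Mono (φ.f m)) ∧ (∀ m, Coh.IsCoh (G.X m)) ∧
      G.IsStrictlyGE a ∧ G.IsStrictlyLE b ∧
      (∀ p m q, p + 1 = m → m + 1 = q → ∀ (k : κ) (x : Γ(L.X m, V k)), (L.d m q).app (V k) x = 0 →
        ∃ (y : Γ(G.X m, V k)) (w : Γ(L.X p, V k)), x = (φ.f m).app (V k) y + (L.d p m).app (V k) w) ∧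
      (∀ p m, p + 1 = m → ∀ (k : κ) (y : Γ(G.X m, V k)),
        (∃ w, (φ.f m).app (V k) y = (L.d p m).app (V k) w) →
        ∃ y' : Γ(G.X p, V k), (L.d p m).app (V k) ((φ.f p).app (V k) y') = (φ.f m).app (V k) y) := by
  let Z : X.Modules := 0
  have hZ : IsZero Z := isZero_zero _
  have hZc : Coh.IsCoh Z := by
    refine QCoh.isCoh_iff.2 ⟨KFlatLib.isQCoh_of_isZero hZ, fun U => ?_⟩
    haveI : Subsingleton Γ(Z, U.1) := ⟨fun x y => (mono_isZero_app hZ U.1 x).trans (mono_isZero_app hZ U.1 y).symm⟩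
    exact Module.Finite.of_surjective (0 : Γ(X, U.1) →ₗ[Γ(X, U.1)] Γ(Z, U.1)) fun y => ⟨0, Subsingleton.elim _ _⟩
  let c : ℤ := b + 1
  suffices H : ∀ n : ℕ, ∃ F : ∀ m, Over (L.X m), Good L V (c - n) F ∧ ∀ m, b < m → IsZero (F m).left by
    obtain ⟨F, hF, hFb⟩ := H (c - (a - 1)).toNat
    have hia : c - ((c - (a - 1)).toNat : ℤ) ≤ a - 1 := by omega
    generalize c - ((c - (a - 1)).toNat : ℤ) = i at hF hia
    have hlow : ∀ m, m < a → IsZero (F m).left := fun m hm =>
      haveI := hF.mono m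
      IsZero.of_mono (F m).hom (L.isZero_of_isStrictlyGE a m hm)
    have hfac : ∀ m, ∃ g : (F m).left ⟶ (F (m + 1)).left, g ≫ (F (m + 1)).hom = (F m).hom ≫ L.d m (m + 1) :=
      fun m => by
        rcases lt_or_ge m i with hm | hm
        · exact ⟨0, (hF.zero m hm).eq_of_src _ _⟩
        · exact hF.factor m _ rfl hm
    choose d hd using hfac
    have hsq : ∀ m, d m ≫ d (m + 1) = 0 := fun m => by
      haveI := hF.mono (m + 1 + 1)
      rw [← cancel_mono (F (m + 1 + 1)).hom, Category.assoc, hd, ← Category.assoc, hd, Category.assoc, L.d_comp_d,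
        comp_zero, zero_comp]
    let G : CochainComplex X.Modules ℤ := CochainComplex.of (fun m => (F m).left) d hsq
    let φ : G ⟶ L :=
      { f := fun m => (F m).hom
        comm' := fun m q (hmq : m + 1 = q) => by
          subst hmq
          show _ = CochainComplex.of.d (fun m => (F m).left) d m (m + 1) ≫ _
          rw [CochainComplex.of_d]
          exact (hd m).symm }
    refine ⟨G, φ, hF.mono, hF.coh, (CochainComplex.isStrictlyGE_iff _ _).2 hlow,
      (CochainComplex.isStrictlyLE_iff _ _).2 hFb, fun p m q hpm hmq k x hx => ?_, fun p m hpm k y hy => ?_⟩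
    · rcases lt_or_ge m i with hm | hm
      · refine ⟨0, 0, ?_⟩
        rw [map_zero, map_zero, add_zero]
        exact mono_isZero_app (L.isZero_of_isStrictlyGE a m (by omega)) _ x
      · exact hF.surj p m q hpm hmq hm k x hx
    · rcases lt_or_ge i m with hm | hm
      · exact hF.inj p m hpm hm k y hy
      · refine ⟨0, ?_⟩
        rw [map_zero, map_zero]
        exact (mono_isZero_app (L.isZero_of_isStrictlyGE a m (by omega)) _ _).symm
  intro n
  induction n with
  | zero =>
    refine ⟨fun m => Over.mk (0 : Z ⟶ L.X m), ⟨fun m => ⟨fun u v _ => hZ.eq_of_tgt u v⟩, fun _ => hZc,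
      fun _ _ => hZ, fun m q _ _ => ⟨0, hZ.eq_of_src _ _⟩, fun p m q hpm hmq him k x hx => ?_,
      fun p m _ _ k y _ => ⟨0, ?_⟩⟩, fun _ _ => hZ⟩
    · obtain ⟨w, hw⟩ := hb p m q hpm hmq (by omega) k x hx
      refine ⟨0, w, ?_⟩
      rw [map_zero, zero_add]
      exact hw
    · rw [mono_isZero_app hZ (V k) y, map_zero, map_zero, map_zero]
  | succ n ih =>
    obtain ⟨F, hF, hFb⟩ := ih
    obtain ⟨F', hF', heq⟩ := exists_step hV hL hfin _ F hF
    rw [show c - ((n + 1 : ℕ) : ℤ) = c - n - 1 by omega]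
    refine ⟨F', hF', fun m hm => ?_⟩
    rw [heq m (by omega)]
    exact hFb m hm

end Groth.Agent.QCohRep7

end
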